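import Groth.Agent.H2Cot.Schanuel

/-!
# Localization of extensions
-/

universe u

open TensorProduct Algebra Algebra.Extension

namespace Groth.Agent.H2Cot

variable {R S T : Type u} [CommRing R] [CommRing S] [Algebra R S] [CommRing T] [Algebra R T]
  [Algebra S T] [IsScalarTower R S T] (P : Extension.{u} R S) (M : Submonoid S)
  [IsLocalization M T]

/-- The algebra map of the localized extension. -/
noncomputable def locHom : Localization (M.comap (algebraMap P.Ring S)) →ₐ[R] T :=
  IsLocalization.liftAlgHom (M := M.comap (algebraMap P.Ring S))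
    (f := (IsScalarTower.toAlgHom R S T).comp (IsScalarTower.toAlgHom R P.Ring S))
    (fun ⟨y, hy⟩ ↦ by simpa using IsLocalization.map_units T ⟨algebraMap P.Ring S y, hy⟩)

lemma locHom_surjective : Function.Surjective (locHom (T := T) P M) := by
  intro x
  obtain ⟨x, ⟨s, hs⟩, rfl⟩ := IsLocalization.exists_mk'_eq M x
  obtain ⟨x, rfl⟩ := P.algebraMap_surjective x
  obtain ⟨s, rfl⟩ := P.algebraMap_surjective s
  refine ⟨IsLocalization.mk' _ x ⟨s, show s ∈ M.comap (algebraMap P.Ring S) from hs⟩, ?_⟩
  simp only [locHom, IsLocalization.coe_liftAlgHom, AlgHom.toRingHom_eq_coe]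
  rw [IsLocalization.lift_mk'_spec]
  simp

variable (T) in
/-- The localized extension. -/
noncomputable abbrev loc : Extension R T :=
  Extension.ofSurjective (locHom (T := T) P M) (locHom_surjective P M)

variable (T) in
/-- The map to the localized extension. -/
noncomputable def toLoc : P.Hom (loc T P M) where
  toRingHom := algebraMap P.Ring (Localization (M.comap (algebraMap P.Ring S)))
  toRingHom_algebraMap x :=
    (IsScalarTower.algebraMap_apply R P.Ring (Localization (M.comap (algebraMap P.Ring S))) x).symm
  algebraMap_toRingHom _ := @IsLocalization.lift_eq ..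

set_option backward.isDefEq.respectTransparency false in
variable (T) in
/-- Conormal module of the localized extension. -/
theorem nonempty_cotangentEquiv :
    Nonempty (T ⊗[S] P.Cotangent ≃ₗ[T] (loc T P M).Cotangent) ∧
      Nonempty (T ⊗[S] P.CotangentSpace ≃ₗ[T] (loc T P M).CotangentSpace) := by
  letI M' := M.comap (algebraMap P.Ring S)
  letI : Algebra P.Ring (loc T P M).Ring :=
    (inferInstance : Algebra P.Ring (Localization M'))
  letI := ((algebraMap S T).comp (algebraMap P.Ring S)).toAlgebra
  letI := (locHom (T := T) P M).toRingHom.toAlgebra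
  haveI : IsScalarTower P.Ring S T := .of_algebraMap_eq' rfl
  haveI : IsScalarTower P.Ring (Localization M') T :=
    .of_algebraMap_eq fun r ↦ ((toLoc T P M).algebraMap_toRingHom r).symm
  haveI : IsLocalizedModule M' (IsScalarTower.toAlgHom P.Ring S T).toLinearMap := by
    rw [isLocalizedModule_iff_isLocalization]
    convert! ‹IsLocalization M T› using 1
    exact Submonoid.map_comap_eq_of_surjective P.algebraMap_surjective _
  refine ⟨⟨Extension.tensorCotangent (toLoc T P M) rfl ?_⟩,
    ⟨Extension.tensorCotangentSpaceOfFormallyEtale (toLoc T P M)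
      (RingHom.formallyEtale_algebraMap.mpr
        (FormallyEtale.of_isLocalization (M := M') (Rₘ := Localization M')))⟩⟩
  let fQ := locHom (T := T) P M
  let F : P.ker →ₗ[P.Ring] RingHom.ker fQ := (toLoc T P M).mapKer rfl
  refine (isLocalizedModule_iff_isBaseChange M' (Localization M') F).mp ?_
  have : (LinearMap.ker <| Algebra.linearMap P.Ring S).localized' (Localization M') M'
      (Algebra.linearMap P.Ring (Localization M')) = RingHom.ker fQ := by
    rw [LinearMap.localized'_ker_eq_ker_localizedMap (Localization M') M'
      (Algebra.linearMap P.Ring (Localization M'))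
      (f' := (IsScalarTower.toAlgHom P.Ring S T).toLinearMap)]
    ext x
    obtain ⟨x, ⟨s, hs⟩, rfl⟩ := IsLocalization.exists_mk'_eq M' x
    simp only [LinearMap.mem_ker, LinearMap.extendScalarsOfIsLocalization_apply', RingHom.mem_ker,
      IsLocalization.coe_liftAlgHom, AlgHom.toRingHom_eq_coe, IsLocalization.lift_mk'_spec,
      RingHom.coe_coe, AlgHom.coe_comp, IsScalarTower.coe_toAlgHom', Function.comp_apply,
      mul_zero, fQ, locHom]
    have : IsLocalization.mk' (Localization M') x ⟨s, hs⟩ =
        IsLocalizedModule.mk' (Algebra.linearMap P.Ring (Localization M')) x ⟨s, hs⟩ := by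
      rw [IsLocalization.mk'_eq_iff_eq_mul, mul_comm, ← Algebra.smul_def, ← Submonoid.smul_def,
        IsLocalizedModule.mk'_cancel']
      rfl
    simp [this, ← IsScalarTower.algebraMap_apply]
  have : F = ((LinearEquiv.ofEq _ _ this).restrictScalars P.Ring).toLinearMap ∘ₗ
    P.ker.toLocalized' (Localization M') M' (Algebra.linearMap P.Ring (Localization M')) := by
    ext; rfl
  rw [this]
  exact IsLocalizedModule.of_linearEquiv _ _ _

variable {S' : Type u} [CommRing S'] [Algebra R S'] [Algebra S' T] [IsScalarTower R S' T]
  (Q : Extension.{u} R S') (N : Submonoid S') [IsLocalization N T]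

/-- Maps between localized rings. -/
noncomputable def locMapHom (u : P.Ring →ₐ[R] Q.Ring)
    (hu : ∀ x, algebraMap S' T (algebraMap Q.Ring S' (u x)) =
      algebraMap S T (algebraMap P.Ring S x))
    (hN : ∀ y : S', IsUnit (algebraMap S' T y) → y ∈ N) :
    Localization (M.comap (algebraMap P.Ring S)) →ₐ[R]
      Localization (N.comap (algebraMap Q.Ring S')) :=
  IsLocalization.liftAlgHom (M := M.comap (algebraMap P.Ring S))
    (f := (IsScalarTower.toAlgHom R Q.Ring (Localization (N.comap (algebraMap Q.Ring S')))).comp u)
    (fun ⟨y, hy⟩ ↦ IsLocalization.map_units (Localization (N.comap (algebraMap Q.Ring S')))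
      (⟨u y, hN (algebraMap Q.Ring S' (u y)) (by rw [hu]; exact IsLocalization.map_units T (⟨_, hy⟩ : M))⟩ :
        N.comap (algebraMap Q.Ring S')))

/-- Maps between localized extensions. -/
noncomputable def locMap (u : P.Ring →ₐ[R] Q.Ring)
    (hu : ∀ x, algebraMap S' T (algebraMap Q.Ring S' (u x)) =
      algebraMap S T (algebraMap P.Ring S x))
    (hN : ∀ y : S', IsUnit (algebraMap S' T y) → y ∈ N) :
    (loc T P M).Hom (loc T Q N) :=
  Extension.Hom.ofAlgHom (P := loc T P M) (P' := loc T Q N) (locMapHom P M Q N u hu hN) (by
    have key : (locHom (T := T) Q N).comp (locMapHom P M Q N u hu hN) = locHom (T := T) P M := by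
      refine IsLocalization.algHom_ext (M.comap (algebraMap P.Ring S)) ?_
      ext x
      simp [locHom, locMapHom, hu, Algebra.algHom, IsScalarTower.toAlgHom]
    exact key)

end Groth.Agent.H2Cot
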