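import Mathlib

/-!
# Conormal modules of two extensions of the same algebra
-/

universe w u v

open TensorProduct Algebra Algebra.Extension

namespace Groth.Agent.H2Cot

variable {R : Type u} {S : Type v} [CommRing R] [CommRing S] [Algebra R S]
variable {P Q : Extension.{w} R S}

lemma sub_comp_map {P' : Extension.{w} R S} (f g : P.Hom P') (h : Q.Hom P) (x : Q.CotangentSpace) :
    f.sub g (CotangentSpace.map h x) = (f.comp h).sub (g.comp h) x := by
  induction x using TensorProduct.induction_on with
  | zero => simp
  | add a b ha hb => simp only [map_add, ha, hb]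
  | tmul r y =>
    obtain ⟨y, rfl⟩ := KaehlerDifferential.tensorProductTo_surjective _ _ y
    induction y with
    | zero => simp only [map_zero, tmul_zero]
    | add _ _ h₁ h₂ => simp only [map_add, tmul_add, h₁, h₂]
    | tmul a b =>
      simp only [Derivation.tensorProductTo_tmul, tmul_smul, smul_tmul', CotangentSpace.map_tmul,
        Hom.sub_tmul, Hom.toAlgHom_apply]
      congr 1

lemma map_comp_sub {P' : Extension.{w} R S} (f g : Q.Hom P) (h : P.Hom P') (x : Q.CotangentSpace) :
    Cotangent.map h (f.sub g x) = (h.comp f).sub (h.comp g) x := by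
  induction x using TensorProduct.induction_on with
  | zero => simp
  | add a b ha hb => simp only [map_add, ha, hb]
  | tmul r y =>
    obtain ⟨y, rfl⟩ := KaehlerDifferential.tensorProductTo_surjective _ _ y
    induction y with
    | zero => simp only [map_zero, tmul_zero]
    | add _ _ h₁ h₂ => simp only [map_add, tmul_add, h₁, h₂]
    | tmul a b =>
      simp only [Derivation.tensorProductTo_tmul, tmul_smul, smul_tmul', Hom.sub_tmul, map_smul,
        Cotangent.map_mk]
      congr 2
      ext
      simp [Hom.subToKer_apply_coe]

/-- Given maps in both directions, the twisted sums of conormal module and cotangent space agree. -/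
theorem exists_equiv (u : P.Hom Q) (v : Q.Hom P) :
    Nonempty ((P.Cotangent × Q.CotangentSpace) ≃ₗ[S] (Q.Cotangent × P.CotangentSpace)) := by
  let c := (v.comp u).sub (.id P)
  let c' := (u.comp v).sub (.id Q)
  let φ : (P.Cotangent × Q.CotangentSpace) →ₗ[S] (Q.Cotangent × P.CotangentSpace) :=
    ((Cotangent.map u).comp (LinearMap.fst S _ _) - c'.comp (LinearMap.snd S _ _)).prod
      (P.cotangentComplex.comp (LinearMap.fst S _ _) -
        (CotangentSpace.map v).comp (LinearMap.snd S _ _))
  let ψ : (Q.Cotangent × P.CotangentSpace) →ₗ[S] (P.Cotangent × Q.CotangentSpace) :=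
    ((Cotangent.map v).comp (LinearMap.fst S _ _) - c.comp (LinearMap.snd S _ _)).prod
      (Q.cotangentComplex.comp (LinearMap.fst S _ _) -
        (CotangentSpace.map u).comp (LinearMap.snd S _ _))
  have h1 : ∀ a, c (P.cotangentComplex a) = Cotangent.map v (Cotangent.map u a) - a := by
    intro a
    have := LinearMap.congr_fun (Cotangent.map_sub_map (v.comp u) (.id P)) a
    simp only [LinearMap.sub_apply, Cotangent.map_comp, LinearMap.coe_comp, Function.comp_apply,
      Cotangent.map_id, LinearMap.id_apply] at this
    exact this.symm
  have h1' : ∀ a, c' (Q.cotangentComplex a) = Cotangent.map u (Cotangent.map v a) - a := by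
    intro a
    have := LinearMap.congr_fun (Cotangent.map_sub_map (u.comp v) (.id Q)) a
    simp only [LinearMap.sub_apply, Cotangent.map_comp, LinearMap.coe_comp, Function.comp_apply,
      Cotangent.map_id, LinearMap.id_apply] at this
    exact this.symm
  have h2 : ∀ a, P.cotangentComplex (c a) =
      CotangentSpace.map v (CotangentSpace.map u a) - a := by
    intro a
    have := LinearMap.congr_fun (CotangentSpace.map_sub_map (v.comp u) (.id P)) a
    simp only [LinearMap.sub_apply, CotangentSpace.map_comp, LinearMap.coe_comp,
      Function.comp_apply, CotangentSpace.map_id, LinearMap.id_apply] at this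
    exact this.symm
  have h2' : ∀ a, Q.cotangentComplex (c' a) =
      CotangentSpace.map u (CotangentSpace.map v a) - a := by
    intro a
    have := LinearMap.congr_fun (CotangentSpace.map_sub_map (u.comp v) (.id Q)) a
    simp only [LinearMap.sub_apply, CotangentSpace.map_comp, LinearMap.coe_comp,
      Function.comp_apply, CotangentSpace.map_id, LinearMap.id_apply] at this
    exact this.symm
  have h3 : ∀ a, c (CotangentSpace.map v a) = Cotangent.map v (c' a) := by
    intro a
    simp only [c, c']
    rw [sub_comp_map, map_comp_sub]
    congr 1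
  have h3' : ∀ a, c' (CotangentSpace.map u a) = Cotangent.map u (c a) := by
    intro a
    simp only [c, c']
    rw [sub_comp_map, map_comp_sub]
    congr 1
  refine ⟨LinearEquiv.ofLinear φ ψ (LinearMap.ext fun a ↦ ?_) (LinearMap.ext fun a ↦ ?_)⟩
  · simp only [φ, ψ, LinearMap.coe_comp, Function.comp_apply, LinearMap.prod_apply,
      LinearMap.sub_apply, LinearMap.coe_fst, LinearMap.coe_snd, LinearMap.id_apply, Function.prod,
      map_sub, CotangentSpace.map_cotangentComplex, h1', h2, h3']
    refine Prod.ext ?_ ?_ <;> abel
  · simp only [φ, ψ, LinearMap.coe_comp, Function.comp_apply, LinearMap.prod_apply,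
      LinearMap.sub_apply, LinearMap.coe_fst, LinearMap.coe_snd, LinearMap.id_apply, Function.prod,
      map_sub, CotangentSpace.map_cotangentComplex, h1, h2', h3]
    refine Prod.ext ?_ ?_ <;> abel

end Groth.Agent.H2Cot
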